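import Cfsg.Agent.TwoF.SpD.Tool
import Cfsg.Agent.TwoF.SpD.Blk
import Cfsg.Agent.TwoF.SpO.Tool
import Cfsg.Agent.TwoF.Gen.BCub
import Cfsg.Agent.TAB.Ru.Main
import Cfsg.Agent.S2051
import Cfsg.Agent.S2077

/-!
# TwoF SP-D: the row of the Rudvalis group (helper29)
-/

set_option autoImplicit false
set_option maxRecDepth 100000

namespace Cfsg.Agent.TwoF.SpD.Ru

open Cfsg Subgroup Cfsg.Agent.TwoF.Gen Cfsg.Agent.TAB Cfsg.Agent.TAB.Eng Cfsg.Agent.TAB.Use
open Cfsg.Agent.TAB.Ru Cfsg.Agent.TwoF.SpO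
open Cfsg.Agent.SporadicB.RuOrder (H card_H)
open Cfsg.Agent.H300.Ru

theorem tab : Tab T RR := by
  have := finH
  have hs : ∀ sd ∈ seeds, Virt T (nth sd) := List.forall_mem_cons.2 ⟨virt_gc gc1, List.forall_mem_cons.2 ⟨virt_gc gc2,
    List.forall_mem_cons.2 ⟨virt_gc gc5, List.forall_mem_singleton.2
      (ON.virt_coad (k := 2) mass rat (virt_gc gc0) (by decide +kernel))⟩⟩⟩
  have hk := Nat.card_le_card_of_injective (fun j : Fin 36 => ConjClasses.mk (R j))
    fun i j h => nonconj i j (ConjClasses.mk_eq_mk_iff_isConj.1 h)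
  rw [Nat.card_eq_fintype_card, Fintype.card_fin] at hk
  have h1 := Sm1.virt_five mass rfl hs 1 [1, 9, 14, 17, 18] (by decide) (by decide +kernel) ok_A
  have h2 := Sm1.virt_okC mass.1 (List.forall_mem_append.2 ⟨hs, List.forall_mem_singleton.2 h1⟩) ok_B
  exact Sm1.tab_of_cls mass (fun r hr => h2 _ (List.of_mem_zip hr).2) ok_R hk

theorem ty1 : T.ty 1 = 0 := ty_one (by decide +kernel)

theorem cent {x : H} {s c : ℕ} (hx : T.ty x = s) (j : Fin 36)
    (h : (rp j).i = s ∧ (fm s).c = c ∧ D.cnt s * c = D.N ∧ 0 < D.cnt s) :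
    Nat.card (centralizer ({x} : Set H)) = c := by
  have := finH
  obtain ⟨rfl, rfl, h1, h2⟩ := h
  have h3 : One T (rp j).i := ⟨R j, fam_R j, (Nat.mul_le_mul_left _ (cent_R j)).trans (h1.trans mass.1.symm).le⟩
  exact Nat.eq_of_mul_eq_mul_left h2 ((h3.card mass hx).trans h1.symm)

/-- the elements of order 29 -/
def z29 : List ℤ := [15095808000, 0, 0, -4608000, 0, 737280, 0, 0, 0, -331776, 0, 0, 0, 0, 0, 0, 0, 0, 0, 147420, 0, 0,
  19968000, -216000, -76800, 34125, 186368, 0]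

/-- the central elements of order 5 -/
def z5 : List ℤ := [218889216, 3234816, 2236416, 66816, 239616, 0, 0, 9216, 39936, 0, 20736, 38016, 0, 9216, 0, 0,
  18816, 0, 9216, 0, 20736, -29484, 868608, -18792, 5568, -7917, 0, -3328]

theorem prod29 {x : H} {s c : ℕ} (hx : T.ty x = s) (j : Fin 36)
    (h : (rp j).i = s ∧ (fm s).c = c ∧ D.cnt s * c = D.N ∧ 0 < D.cnt s)
    (hz : Blk.okB D RR (fun u => D.ord u % 29 == 0) s c s c z29 = true) : ∃ a, 29 ∣ orderOf (a * x * a⁻¹ * x) := by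
  have := finH
  obtain ⟨a, ha⟩ := Blk.exists_prod tab mass.1 ty1 hz hx hx (cent hx j h) (cent hx j h)
  exact ⟨a, by rw [T.ord]; exact Nat.dvd_of_mod_eq_zero (beq_iff_eq.1 ha)⟩

theorem types (x : H) : (orderOf x = 2 → T.ty x = 1 ∨ T.ty x = 2) ∧ (orderOf x = 3 → T.ty x = 3) ∧
    (orderOf x = 5 → T.ty x = 8 ∨ T.ty x = 9) := by
  rw [T.ord]
  exact (by decide +kernel : ∀ i < 28, (D.ord i = 2 → i = 1 ∨ i = 2) ∧ (D.ord i = 3 → i = 3) ∧
    (D.ord i = 5 → i = 8 ∨ i = 9)) _ (T.lt x)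

theorem prod_three (x : H) (hx : orderOf x = 3) : ∃ a, 29 ∣ orderOf (a * x * a⁻¹ * x) :=
  prod29 (c := 2160) ((types x).2.1 hx) 3 (by decide +kernel) (by decide +kernel)

theorem prod_five (x : H) (hx : orderOf x = 5) : ∃ a, 29 ∣ orderOf (a * x * a⁻¹ * x) := by
  rcases (types x).2.2 hx with h | h
  · exact prod29 (c := 300) h 8 (by decide +kernel) (by decide +kernel)
  · exact prod29 (c := 1000) h 9 (by decide +kernel) (by decide +kernel)

section two

variable {V : Type} [AddCommGroup V] [Module (ZMod 2) V] [Finite V] {ρ : Representation (ZMod 2) H V}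

theorem cod_one (hf : Function.Injective ρ) {x : H} (hx : T.ty x = 1) : 14 ≤ cod ρ (zpowers x) := by
  have := finH
  obtain ⟨a, ha⟩ := prod29 (c := 116480) hx 1 (by decide +kernel) (by decide +kernel)
  have h1 := le_cod_of_dvd hf (s := 29) (n := 28) (by norm_num) (by rw [Nat.card_zmod]; decide)
    (by rw [Nat.card_zmod]; exact fun d h1 h2 => by interval_cases d <;> decide) ha
  have h2 := cod_prod_le (ρ := ρ) a x
  omega

theorem cod_two (hf : Function.Injective ρ) {x : H} (hx : T.ty x = 2) : 10 ≤ cod ρ (zpowers x) := by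
  have := finH
  have hc := cent (c := 245760) hx 2 (by decide +kernel)
  obtain ⟨a, ha⟩ := Blk.exists_prod tab mass.1 ty1 (good := fun u => u == 9) (z := z5) (by decide +kernel) hx hx hc hc
  rw [beq_iff_eq] at ha
  have h2 := cod_prod_le (ρ := ρ) a x
  generalize a * x * a⁻¹ * x = z at ha h2
  have hz : orderOf z = 5 := by rw [T.ord, ha]; rfl
  have : Fact (Nat.Prime 5) := ⟨Nat.prime_five⟩
  have h6 := dvd_cod_of_sylow (ρ := ρ) Nat.prime_five (by decide) (by rw [card_H]; norm_num) hz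
    (by rw [cent (c := 1000) ha 9 (by decide +kernel)]; norm_num) (y := R 8)
    (by rw [← show orderOf (R 8) = 5 from order_R 8, pow_orderOf_eq_one])
    (by rw [cent (c := 300) (s := 8) (fam_R 8) 8 (by decide +kernel)]; norm_num)
  have h7 := pow_cod_modEq (ρ := ρ) (s := 5) (by rw [Nat.card_zmod]; decide) (X := zpowers z)
    (IsPGroup.of_card (n := 1) (by rw [Nat.card_zpowers, hz, pow_one]))
  have h8 := cod_pos hf (B := zpowers z) fun e => by
    rw [zpowers_eq_bot.1 e, orderOf_one] at hz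
    cases hz
  rw [Nat.card_zmod] at h7
  obtain ⟨c, hc⟩ := h6
  rw [hc] at h2 h7 h8
  by_contra h9
  have h10 : c = 1 ∨ c = 2 ∨ c = 3 := by omega
  rcases h10 with rfl | rfl | rfl <;> exact absurd h7 (by decide)

theorem core : SpB.Core 2 H := by
  intro V _ _ _ ρ hf _ A hA
  have := finH
  refine ⟨A, hA, by_contra fun hc => ?_⟩
  obtain ⟨r, -, h1, h2⟩ := hA.exists_card
  have h3 : ∀ e ∈ A, e ≠ 1 → T.ty e = 1 ∨ T.ty e = 2 := fun e he h => (types e).1 (orderOf_eq_prime (hA.1.2 e he) h)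
  obtain ⟨a, b, h4, h5, h6⟩ := Blk.count ty1 A h3
  have h7 := Blk.chRow_part tab (by decide +kernel)
  by_cases h8 : ∀ e ∈ A, T.ty e ≠ 1
  · obtain ⟨m, hm⟩ := h6 _ (h7 (rows.getD 22 []) (by decide +kernel))
    rw [show nth (rows.getD 22 []) 0 = 756 by decide +kernel, show nth (rows.getD 22 []) 2 = -12 by decide +kernel,
      h5 h8] at hm
    obtain ⟨x, hx, h9⟩ := A.bot_or_exists_ne_one.resolve_left hA.2.1
    have h10 := cod_two hf ((h3 x hx h9).resolve_left (h8 x hx))
    have h11 := cod_add_three_le_of_not_cub hA.1 hc hx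
    have h12 : 2 ^ 7 ≤ Nat.card A := h1 ▸ Nat.pow_le_pow_right two_pos (by omega)
    have h13 : (0 : ℤ) ≤ Nat.card A * m := by positivity
    have h14 := h5 h8
    omega
  · push Not at h8
    obtain ⟨x, hx, h9⟩ := h8
    have h10 := cod_one hf h9
    have h11 := cod_add_three_le_of_not_cub hA.1 hc hx
    obtain ⟨c, h12⟩ : 2 ^ 9 ∣ Nat.card A := by
      rw [h1]
      exact pow_dvd_pow 2 (by omega)
    obtain ⟨m, hm⟩ := h6 _ (h7 (rows.getD 2 []) (by decide +kernel))
    obtain ⟨n, hn⟩ := h6 _ (h7 (rows.getD 3 []) (by decide +kernel))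
    rw [show nth (rows.getD 2 []) 0 = 783 by decide +kernel, show nth (rows.getD 2 []) 1 = -1 by decide +kernel,
      show nth (rows.getD 2 []) 2 = 15 by decide +kernel, h12, Nat.cast_mul, mul_assoc] at hm
    rw [show nth (rows.getD 3 []) 0 = 3276 by decide +kernel, show nth (rows.getD 3 []) 1 = 0 by decide +kernel,
      show nth (rows.getD 3 []) 2 = 76 by decide +kernel, h12, Nat.cast_mul, mul_assoc] at hn
    generalize (c : ℤ) * m = u at hm
    generalize (c : ℤ) * n = v at hn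
    omega

end two

theorem pull {p : ℕ} (h : ∀ x : H, orderOf x = p → ∃ a, 29 ∣ orderOf (a * x * a⁻¹ * x)) (x : Spor.Ru)
    (hx : orderOf x = p) : ∃ a, 29 ∣ orderOf (a * x * a⁻¹ * x) := by
  obtain ⟨a, ha⟩ := h (RuLat.Main.equiv x) ((MulEquiv.orderOf_eq _ x).trans hx)
  refine ⟨RuLat.Main.equiv.symm a, ?_⟩
  rw [← RuLat.Main.equiv.orderOf_eq]
  simpa only [map_mul, map_inv, MulEquiv.apply_symm_apply] using ha

/-- **the row of `Ru`** -/
theorem row (p : ℕ) [hp : Fact p.Prime] : Row p Spor.Ru := by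
  have := TAB.Ru.finite
  have hN : Nat.card Spor.Ru = 145926144000 := (Nat.card_congr RuLat.Main.equiv.toEquiv).trans card_H
  have ho : ¬ p ∣ Nat.card (Out Spor.Ru) := S2077.result ▸ hp.out.not_dvd_one
  by_cases h2 : p = 2
  · subst h2
    exact SpB.row_of_core S2077.result S2051.result
      (fun d h1 h2 => ((Nat.dvd_prime Nat.prime_two).1 h1).resolve_right fun e => h2 (e ▸ dvd_rfl))
      (core.of_equiv RuLat.Main.equiv)
  by_cases h3 : p = 3
  · subst h3
    exact (noOff_of_prod ho (s := 29) (n := 28) (e := 3) (by norm_num) (by norm_num)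
      (fun d h1 h2 => by interval_cases d <;> decide) (by rw [hN]; norm_num) (by norm_num) (pull prod_three)).row
  by_cases h5 : p = 5
  · subst h5
    exact (noOff_of_prod ho (s := 29) (n := 14) (e := 3) (by norm_num) (by norm_num)
      (fun d h1 h2 => by interval_cases d <;> decide) (by rw [hN]; norm_num) (by norm_num) (pull prod_five)).row
  refine row_sq ho S2051.result fun h1 => ?_
  rw [hN, show 145926144000 = 2 ^ 14 * 3 ^ 3 * 5 ^ 3 * (7 * 13 * 29) by norm_num] at h1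
  have h4 : ∀ {q : ℕ}, q.Prime → p ≠ q → ∀ n, Nat.Coprime (p ^ 2) (q ^ n) := fun hq h n =>
    ((Nat.coprime_primes hp.out hq).2 h).pow _ _
  have h6 := (((h4 Nat.prime_two h2 14).mul_right (h4 Nat.prime_three h3 3)).mul_right
    (h4 Nat.prime_five h5 3)).dvd_of_dvd_mul_left h1
  have h7 : Squarefree (7 * 13 * 29) := by
    simp only [Nat.squarefree_mul_iff]
    refine ⟨by norm_num, ⟨by norm_num, ?_, ?_⟩, ?_⟩ <;> exact (Nat.Prime.prime (by norm_num)).squarefree
  exact hp.out.one_lt.ne' (Nat.isUnit_iff.1 (h7 p (by rwa [← pow_two])))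

end Cfsg.Agent.TwoF.SpD.Ru
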